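import Cfsg.Agent.Lib.Helper29.Fi78.Data

/-! Generated: kernel checks of the defining relations of Fi22 on the 78 × 78 matrices over `ZMod 13`. -/

set_option autoImplicit false
set_option maxRecDepth 100000

namespace Cfsg.Agent.Lib.Helper29.Fi78

open Cfsg.Agent.Lib.Helper29.MatPack Cfsg.Spor

theorem wf_a : wfF 13 78 (G .a) = true := by decide +kernel
theorem wf_b : wfF 13 78 (G .b) = true := by decide +kernel
theorem wf_c : wfF 13 78 (G .c) = true := by decide +kernel
theorem wf_d : wfF 13 78 (G .d) = true := by decide +kernel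
theorem wf_e : wfF 13 78 (G .e) = true := by decide +kernel
theorem wf_f : wfF 13 78 (G .f) = true := by decide +kernel
theorem wf_g : wfF 13 78 (G .g) = true := by decide +kernel
theorem wf_h : wfF 13 78 (G .h) = true := by decide +kernel
theorem wf_i : wfF 13 78 (G .i) = true := by decide +kernel

theorem chk_a_a : eqF (wordFB 13 78 G (G .a) [.a]) idF 78 = true := by decide +kernel
theorem chk_a_b : eqF (wordFB 13 78 G (G .b) [.a, .b, .a, .b, .a]) idF 78 = true := by decide +kernel
theorem chk_a_c : eqF (wordFB 13 78 G (G .c) [.a, .c, .a]) idF 78 = true := by decide +kernel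
theorem chk_a_d : eqF (wordFB 13 78 G (G .d) [.a, .d, .a]) idF 78 = true := by decide +kernel
theorem chk_a_e : eqF (wordFB 13 78 G (G .e) [.a, .e, .a]) idF 78 = true := by decide +kernel
theorem chk_a_f : eqF (wordFB 13 78 G (G .f) [.a, .f, .a]) idF 78 = true := by decide +kernel
theorem chk_a_g : eqF (wordFB 13 78 G (G .g) [.a, .g, .a]) idF 78 = true := by decide +kernel
theorem chk_a_h : eqF (wordFB 13 78 G (G .h) [.a, .h, .a]) idF 78 = true := by decide +kernel
theorem chk_a_i : eqF (wordFB 13 78 G (G .i) [.a, .i, .a]) idF 78 = true := by decide +kernel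
theorem chk_b_b : eqF (wordFB 13 78 G (G .b) [.b]) idF 78 = true := by decide +kernel
theorem chk_b_c : eqF (wordFB 13 78 G (G .c) [.b, .c, .b, .c, .b]) idF 78 = true := by decide +kernel
theorem chk_b_d : eqF (wordFB 13 78 G (G .d) [.b, .d, .b]) idF 78 = true := by decide +kernel
theorem chk_b_e : eqF (wordFB 13 78 G (G .e) [.b, .e, .b]) idF 78 = true := by decide +kernel
theorem chk_b_f : eqF (wordFB 13 78 G (G .f) [.b, .f, .b]) idF 78 = true := by decide +kernel
theorem chk_b_g : eqF (wordFB 13 78 G (G .g) [.b, .g, .b]) idF 78 = true := by decide +kernel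
theorem chk_b_h : eqF (wordFB 13 78 G (G .h) [.b, .h, .b]) idF 78 = true := by decide +kernel
theorem chk_b_i : eqF (wordFB 13 78 G (G .i) [.b, .i, .b]) idF 78 = true := by decide +kernel
theorem chk_c_c : eqF (wordFB 13 78 G (G .c) [.c]) idF 78 = true := by decide +kernel
theorem chk_c_d : eqF (wordFB 13 78 G (G .d) [.c, .d, .c, .d, .c]) idF 78 = true := by decide +kernel
theorem chk_c_e : eqF (wordFB 13 78 G (G .e) [.c, .e, .c]) idF 78 = true := by decide +kernel
theorem chk_c_f : eqF (wordFB 13 78 G (G .f) [.c, .f, .c]) idF 78 = true := by decide +kernel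
theorem chk_c_g : eqF (wordFB 13 78 G (G .g) [.c, .g, .c]) idF 78 = true := by decide +kernel
theorem chk_c_h : eqF (wordFB 13 78 G (G .h) [.c, .h, .c]) idF 78 = true := by decide +kernel
theorem chk_c_i : eqF (wordFB 13 78 G (G .i) [.c, .i, .c]) idF 78 = true := by decide +kernel
theorem chk_d_d : eqF (wordFB 13 78 G (G .d) [.d]) idF 78 = true := by decide +kernel
theorem chk_d_e : eqF (wordFB 13 78 G (G .e) [.d, .e, .d, .e, .d]) idF 78 = true := by decide +kernel
theorem chk_d_f : eqF (wordFB 13 78 G (G .f) [.d, .f, .d]) idF 78 = true := by decide +kernel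
theorem chk_d_g : eqF (wordFB 13 78 G (G .g) [.d, .g, .d]) idF 78 = true := by decide +kernel
theorem chk_d_h : eqF (wordFB 13 78 G (G .h) [.d, .h, .d, .h, .d]) idF 78 = true := by decide +kernel
theorem chk_d_i : eqF (wordFB 13 78 G (G .i) [.d, .i, .d]) idF 78 = true := by decide +kernel
theorem chk_e_e : eqF (wordFB 13 78 G (G .e) [.e]) idF 78 = true := by decide +kernel
theorem chk_e_f : eqF (wordFB 13 78 G (G .f) [.e, .f, .e, .f, .e]) idF 78 = true := by decide +kernel
theorem chk_e_g : eqF (wordFB 13 78 G (G .g) [.e, .g, .e]) idF 78 = true := by decide +kernel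
theorem chk_e_h : eqF (wordFB 13 78 G (G .h) [.e, .h, .e]) idF 78 = true := by decide +kernel
theorem chk_e_i : eqF (wordFB 13 78 G (G .i) [.e, .i, .e]) idF 78 = true := by decide +kernel
theorem chk_f_f : eqF (wordFB 13 78 G (G .f) [.f]) idF 78 = true := by decide +kernel
theorem chk_f_g : eqF (wordFB 13 78 G (G .g) [.f, .g, .f, .g, .f]) idF 78 = true := by decide +kernel
theorem chk_f_h : eqF (wordFB 13 78 G (G .h) [.f, .h, .f]) idF 78 = true := by decide +kernel
theorem chk_f_i : eqF (wordFB 13 78 G (G .i) [.f, .i, .f]) idF 78 = true := by decide +kernel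
theorem chk_g_g : eqF (wordFB 13 78 G (G .g) [.g]) idF 78 = true := by decide +kernel
theorem chk_g_h : eqF (wordFB 13 78 G (G .h) [.g, .h, .g]) idF 78 = true := by decide +kernel
theorem chk_g_i : eqF (wordFB 13 78 G (G .i) [.g, .i, .g]) idF 78 = true := by decide +kernel
theorem chk_h_h : eqF (wordFB 13 78 G (G .h) [.h]) idF 78 = true := by decide +kernel
theorem chk_h_i : eqF (wordFB 13 78 G (G .i) [.h, .i, .h, .i, .h]) idF 78 = true := by decide +kernel
theorem chk_i_i : eqF (wordFB 13 78 G (G .i) [.i]) idF 78 = true := by decide +kernel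

/-- the matrix of the word `dcbdefdhi` -/
noncomputable def X1 : ℕ → ℕ := wordFB 13 78 G (G .i) [.d, .c, .b, .d, .e, .f, .d, .h]
theorem chk_X1 : eqF (mulF 13 78 (mulF 13 78 (mulF 13 78 (mulF 13 78 X1 X1) (mulF 13 78 X1 X1)) X1) (mulF 13 78 (mulF 13 78 (mulF 13 78 X1 X1) (mulF 13 78 X1 X1)) X1)) idF 78 = true := by decide +kernel

/-- the matrix of the word `abcdefh` -/
noncomputable def X2 : ℕ → ℕ := wordFB 13 78 G (G .h) [.a, .b, .c, .d, .e, .f]
theorem chk_X2 : eqF (mulF 13 78 (mulF 13 78 (mulF 13 78 (mulF 13 78 X2 X2) (mulF 13 78 X2 X2)) (mulF 13 78 (mulF 13 78 X2 X2) (mulF 13 78 X2 X2))) X2) idF 78 = true := by decide +kernel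

/-- the matrix of the word `bcdefgh` -/
noncomputable def X3 : ℕ → ℕ := wordFB 13 78 G (G .h) [.b, .c, .d, .e, .f, .g]
theorem chk_X3 : eqF (mulF 13 78 (mulF 13 78 (mulF 13 78 (mulF 13 78 X3 X3) (mulF 13 78 X3 X3)) (mulF 13 78 (mulF 13 78 X3 X3) (mulF 13 78 X3 X3))) X3) idF 78 = true := by decide +kernel

theorem a_entry : slot (G .a 1) 1 = 0 := by decide +kernel

end Cfsg.Agent.Lib.Helper29.Fi78
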